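import Groth.Agent.H25SmVar.Basic
import Mathlib.RingTheory.Bialgebra.Basic
import Mathlib.RingTheory.HopfAlgebra.Basic

/-!
Cotangent spaces at rational points and transport of Hopf algebra structures along algebra isomorphisms.
-/

set_option autoImplicit false
universe u v

open IsLocalRing TensorProduct

namespace Groth.Agent.H20DimTan

/-- `m/m²` computes the cotangent space of the localization at a maximal ideal `m`. -/
theorem finrank_cotangentSpace_isLocalization (A : Type u) [CommRing A] (m : Ideal A) [m.IsMaximal]
    (L : Type u) [CommRing L] [Algebra A L] [IsLocalization.AtPrime L m] [IsLocalRing L] :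
    Module.finrank (ResidueField L) (CotangentSpace L) = Module.finrank (A ⧸ m) m.Cotangent := by
  let J := maximalIdeal L
  have hle : m ≤ J.comap (IsScalarTower.toAlgHom A A L) := fun x hx =>
    ((IsLocalization.AtPrime.to_map_mem_maximal_iff L m x) : _ ↔ _).mpr hx
  let φ : m.Cotangent →ₗ[A] J.Cotangent := Ideal.mapCotangent m J (IsScalarTower.toAlgHom A A L) hle
  have hφ : ∀ x : m, φ (m.toCotangent x) = J.toCotangent ⟨algebraMap A L x, hle x.2⟩ := fun x => rfl
  have hinv : ∀ s : A, s ∉ m → ∃ t, 1 - s * t ∈ m := fun s hs => by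
    obtain ⟨t, i, hi, h⟩ := Ideal.IsMaximal.exists_inv ‹m.IsMaximal› hs
    exact ⟨t, by rw [← h]; convert hi using 1; ring⟩
  have hinj : Function.Injective φ := by
    rw [← LinearMap.ker_eq_bot, eq_bot_iff]
    intro c hc
    obtain ⟨x, rfl⟩ := m.toCotangent_surjective c
    rw [LinearMap.mem_ker, hφ, Ideal.toCotangent_eq_zero] at hc
    change algebraMap A L x ∈ maximalIdeal L ^ 2 at hc
    rw [← IsLocalization.AtPrime.map_eq_maximalIdeal m L, ← Ideal.map_pow,
      IsLocalization.mem_map_algebraMap_iff m.primeCompl] at hc
    obtain ⟨⟨⟨y, hy⟩, ⟨s, hs⟩⟩, h⟩ := hc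
    rw [← map_mul] at h
    obtain ⟨⟨c, hcm⟩, hc'⟩ := (IsLocalization.eq_iff_exists m.primeCompl L).mp h
    simp only at hc'
    obtain ⟨t, ht⟩ := hinv (c * s) (fun hh => (Ideal.IsPrime.mem_or_mem inferInstance hh).elim hcm hs)
    rw [Submodule.mem_bot, Ideal.toCotangent_eq_zero,
      show (x : A) = t * (c * y) + (1 - c * s * t) * x by rw [← hc']; ring]
    exact add_mem (Ideal.mul_mem_left _ _ (Ideal.mul_mem_left _ _ hy))
      (by rw [pow_two]; exact Ideal.mul_mem_mul ht x.2)
  have hsurj : Function.Surjective φ := by
    intro c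
    obtain ⟨⟨z, hz⟩, rfl⟩ := J.toCotangent_surjective c
    obtain ⟨⟨x, ⟨s, hs⟩⟩, h⟩ := IsLocalization.surj m.primeCompl z
    simp only at h
    have hx : x ∈ m := by
      rw [← IsLocalization.AtPrime.to_map_mem_maximal_iff L m x, ← h]
      exact Ideal.mul_mem_right _ _ hz
    obtain ⟨t, ht⟩ := hinv s hs
    refine ⟨m.toCotangent ⟨t * x, Ideal.mul_mem_left _ _ hx⟩, ?_⟩
    rw [hφ, Ideal.toCotangent_eq]
    simp only [map_mul, ← h]
    rw [show algebraMap A L t * (z * algebraMap A L s) - z = -(algebraMap A L (1 - s * t) * z) by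
      rw [map_sub, map_one, map_mul]; ring]
    refine neg_mem ?_
    rw [pow_two]
    exact Ideal.mul_mem_mul ((IsLocalization.AtPrime.to_map_mem_maximal_iff L m _).mpr ht) hz
  symm
  refine H25SmVar.finrank_eq_of_equiv_equiv (IsLocalization.AtPrime.equivQuotMaximalIdeal m L)
    (AddEquiv.ofBijective φ.toAddMonoidHom ⟨hinj, hsurj⟩) (RingEquiv.bijective _) ?_
  intro r c
  obtain ⟨a, rfl⟩ := Ideal.Quotient.mk_surjective r
  obtain ⟨x, rfl⟩ := m.toCotangent_surjective c
  show φ (Ideal.Quotient.mk m a • m.toCotangent x) = _ • φ (m.toCotangent x)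
  rw [show (Ideal.Quotient.mk m a • m.toCotangent x) = a • m.toCotangent x from rfl, map_smul,
    IsLocalization.AtPrime.equivQuotMaximalIdeal_apply_mk]
  exact (IsScalarTower.algebraMap_smul L a _).symm

theorem finrank_cotangent_of_rational {k : Type u} [Field k] {A : Type u} [CommRing A] [Algebra k A] (m : Ideal A)
    [m.IsMaximal] (ε : A →ₐ[k] k) (hm : m = RingHom.ker ε) :
    Module.finrank (A ⧸ m) m.Cotangent = Module.finrank k m.Cotangent := by
  refine (H25SmVar.finrank_eq_of_equiv_equiv (algebraMap k (A ⧸ m)) (AddEquiv.refl _) ⟨(algebraMap k (A ⧸ m)).injective, ?_⟩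
    fun r x => ?_).symm
  swap
  · show r • x = algebraMap k (A ⧸ m) r • x
    rw [IsScalarTower.algebraMap_apply k A (A ⧸ m)]
    exact ((IsScalarTower.algebraMap_smul (A ⧸ m) (algebraMap k A r) x).trans
      (IsScalarTower.algebraMap_smul A r x)).symm
  intro q
  obtain ⟨a, rfl⟩ := Ideal.Quotient.mk_surjective q
  refine ⟨ε a, ?_⟩
  rw [IsScalarTower.algebraMap_apply k A (A ⧸ m), Ideal.Quotient.algebraMap_eq, Ideal.Quotient.mk_eq_mk_iff_sub_mem, hm,
    RingHom.mem_ker, map_sub, AlgHom.commutes]
  simp

/-- Cotangent spaces correspond under algebra isomorphisms. -/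
theorem finrank_cotangent_equiv {k : Type u} [Field k] {A : Type u} {B : Type v} [CommRing A] [Algebra k A] [CommRing B]
    [Algebra k B] (e : A ≃ₐ[k] B) (I : Ideal A) (J : Ideal B) (h : I = J.comap e) :
    Module.finrank k I.Cotangent = Module.finrank k J.Cotangent := by
  have h1 : I ≤ J.comap (e : A →ₐ[k] B) := h.le
  have h2 : J ≤ I.comap (e.symm : B →ₐ[k] A) := fun x hx => by
    rw [h]
    show e (e.symm x) ∈ J
    rwa [e.apply_symm_apply]
  refine (LinearEquiv.ofLinear (Ideal.mapCotangent I J (e : A →ₐ[k] B) h1)
    (Ideal.mapCotangent J I (e.symm : B →ₐ[k] A) h2) ?_ ?_).finrank_eq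
  · refine LinearMap.ext fun c => ?_
    obtain ⟨x, rfl⟩ := J.toCotangent_surjective c
    simp [Ideal.mapCotangent_toCotangent]
  · refine LinearMap.ext fun c => ?_
    obtain ⟨x, rfl⟩ := I.toCotangent_surjective c
    simp [Ideal.mapCotangent_toCotangent]

section Transport

variable {k : Type u} [CommRing k] {A : Type u} {B : Type v} [CommRing A] [Algebra k A] [CommRing B] [HopfAlgebra k B]

/-- The transported comultiplication. -/
noncomputable def comulT (e : A ≃ₐ[k] B) : A →ₐ[k] A ⊗[k] A :=
  ((Algebra.TensorProduct.map (e.symm : B →ₐ[k] A) (e.symm : B →ₐ[k] A)).comp (Bialgebra.comulAlgHom k B)).comp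
    (e : A →ₐ[k] B)

/-- The transported bialgebra structure. -/
@[reducible] noncomputable def bialgT (e : A ≃ₐ[k] B) : Bialgebra k A :=
  Bialgebra.ofAlgHom (comulT e) ((Bialgebra.counitAlgHom k B).comp (e : A →ₐ[k] B))
    (by
      refine AlgHom.ext fun a => ?_
      have h := Coalgebra.coassoc_apply (R := k) (e a)
      simp only [comulT, AlgHom.comp_apply, AlgEquiv.coe_algHom, Bialgebra.comulAlgHom_apply,
        AlgEquiv.toAlgHom_eq_coe]
      have e1 : ∀ z : B ⊗[k] B,
          (Algebra.TensorProduct.map (comulT e) (AlgHom.id k A))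
            (Algebra.TensorProduct.map (e.symm : B →ₐ[k] A) (e.symm : B →ₐ[k] A) z) =
          Algebra.TensorProduct.map (Algebra.TensorProduct.map (e.symm : B →ₐ[k] A) (e.symm : B →ₐ[k] A))
            (e.symm : B →ₐ[k] A) (LinearMap.rTensor B (CoalgebraStruct.comul (R := k)) z) := by
        intro z
        induction z using TensorProduct.induction_on with
        | zero => simp
        | tmul p q => simp [comulT]
        | add p q hp hq => simp only [map_add, hp, hq]
      have e2 : ∀ z : B ⊗[k] B,
          (Algebra.TensorProduct.map (AlgHom.id k A) (comulT e))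
            (Algebra.TensorProduct.map (e.symm : B →ₐ[k] A) (e.symm : B →ₐ[k] A) z) =
          Algebra.TensorProduct.map (e.symm : B →ₐ[k] A)
            (Algebra.TensorProduct.map (e.symm : B →ₐ[k] A) (e.symm : B →ₐ[k] A))
            (LinearMap.lTensor B (CoalgebraStruct.comul (R := k)) z) := by
        intro z
        induction z using TensorProduct.induction_on with
        | zero => simp
        | tmul p q => simp [comulT]
        | add p q hp hq => simp only [map_add, hp, hq]
      erw [e1, e2, ← h]
      generalize LinearMap.rTensor B (CoalgebraStruct.comul (R := k)) (CoalgebraStruct.comul (R := k) (e a)) = z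
      induction z using TensorProduct.induction_on with
      | zero => simp
      | tmul p q =>
        induction p using TensorProduct.induction_on with
        | zero => simp
        | tmul p r => simp
        | add p r hp hr => simp only [TensorProduct.add_tmul, map_add, hp, hr]
      | add p q hp hq => simp only [map_add, hp, hq])
    (by
      refine AlgHom.ext fun a => ?_
      simp only [comulT, AlgHom.comp_apply, AlgEquiv.coe_algHom, Bialgebra.comulAlgHom_apply]
      have e1 : ∀ z : B ⊗[k] B,
          (Algebra.TensorProduct.map ((Bialgebra.counitAlgHom k B).comp (e : A →ₐ[k] B)) (AlgHom.id k A))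
            (Algebra.TensorProduct.map (e.symm : B →ₐ[k] A) (e.symm : B →ₐ[k] A) z) =
          Algebra.TensorProduct.map (AlgHom.id k k) (e.symm : B →ₐ[k] A)
            (LinearMap.rTensor B (CoalgebraStruct.counit (R := k)) z) := by
        intro z
        induction z using TensorProduct.induction_on with
        | zero => simp
        | tmul p q => simp
        | add p q hp hq => simp only [map_add, hp, hq]
      erw [e1, Coalgebra.rTensor_counit_comul]
      simp)
    (by
      refine AlgHom.ext fun a => ?_
      simp only [comulT, AlgHom.comp_apply, AlgEquiv.coe_algHom, Bialgebra.comulAlgHom_apply]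
      have e1 : ∀ z : B ⊗[k] B,
          (Algebra.TensorProduct.map (AlgHom.id k A) ((Bialgebra.counitAlgHom k B).comp (e : A →ₐ[k] B)))
            (Algebra.TensorProduct.map (e.symm : B →ₐ[k] A) (e.symm : B →ₐ[k] A) z) =
          Algebra.TensorProduct.map (e.symm : B →ₐ[k] A) (AlgHom.id k k)
            (LinearMap.lTensor B (CoalgebraStruct.counit (R := k)) z) := by
        intro z
        induction z using TensorProduct.induction_on with
        | zero => simp
        | tmul p q => simp
        | add p q hp hq => simp only [map_add, hp, hq]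
      erw [e1, Coalgebra.lTensor_counit_comul]
      simp)

/-- The transported Hopf algebra structure. -/
@[reducible] noncomputable def hopfT (e : A ≃ₐ[k] B) : HopfAlgebra k A :=
  letI := bialgT e
  let S : A →ₐ[k] A := ((e.symm : B →ₐ[k] A).comp (HopfAlgebra.antipodeAlgHom k B)).comp (e : A →ₐ[k] B)
  HopfAlgebra.ofAlgHom S
    (by
      refine AlgHom.ext fun a => ?_
      show Algebra.TensorProduct.lift S (AlgHom.id k A) (fun _ _ => Commute.all _ _) (comulT e a) =
        algebraMap k A (CoalgebraStruct.counit (R := k) (e a))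
      have e1 : ∀ z : B ⊗[k] B, Algebra.TensorProduct.lift S (AlgHom.id k A) (fun _ _ => Commute.all _ _)
            (Algebra.TensorProduct.map (e.symm : B →ₐ[k] A) (e.symm : B →ₐ[k] A) z) =
          e.symm (LinearMap.mul' k B (LinearMap.rTensor B (HopfAlgebra.antipode k) z)) := by
        intro z
        induction z using TensorProduct.induction_on with
        | zero => simp
        | tmul p q => simp [S]
        | add p q hp hq => simp only [map_add, hp, hq]
      simp only [comulT, AlgHom.comp_apply, AlgEquiv.coe_algHom, Bialgebra.comulAlgHom_apply]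
      erw [e1, HopfAlgebra.mul_antipode_rTensor_comul_apply]
      exact AlgEquiv.commutes _ _)
    (by
      refine AlgHom.ext fun a => ?_
      show Algebra.TensorProduct.lift (AlgHom.id k A) S (fun _ _ => Commute.all _ _) (comulT e a) =
        algebraMap k A (CoalgebraStruct.counit (R := k) (e a))
      have e1 : ∀ z : B ⊗[k] B, Algebra.TensorProduct.lift (AlgHom.id k A) S (fun _ _ => Commute.all _ _)
            (Algebra.TensorProduct.map (e.symm : B →ₐ[k] A) (e.symm : B →ₐ[k] A) z) =
          e.symm (LinearMap.mul' k B (LinearMap.lTensor B (HopfAlgebra.antipode k) z)) := by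
        intro z
        induction z using TensorProduct.induction_on with
        | zero => simp
        | tmul p q => simp [S]
        | add p q hp hq => simp only [map_add, hp, hq]
      simp only [comulT, AlgHom.comp_apply, AlgEquiv.coe_algHom, Bialgebra.comulAlgHom_apply]
      erw [e1, HopfAlgebra.mul_antipode_lTensor_comul_apply]
      exact AlgEquiv.commutes _ _)

end Transport

end Groth.Agent.H20DimTan
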